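import Groth.Prelude.Def_W4swparbununimodPar
import Groth.Agent.StabLib.ShApps
import Groth.Agent.Intersect.Cartier

/-!
Hilbert polynomials of weighted filtrations along an ideal.
-/

set_option autoImplicit false
set_option linter.style.haveILetI false
set_option linter.unusedSectionVars false
set_option backward.isDefEq.respectTransparency false
set_option backward.isDefEq.respectTransparency.types false
set_option maxHeartbeats 1000000

universe u

open CategoryTheory CategoryTheory.Limits AlgebraicGeometry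
open scoped Polynomial
open Groth.Agent.StabLib
open Groth.Agent.WeakAssLib (stalkHom)

noncomputable section

namespace Groth.Agent.ParHilbLib

variable {X : Scheme.{u}}

theorem surjective_stalk {A B : X.Modules} (f : A ⟶ B) [Epi f] (x : X) :
    Function.Surjective (stalkHom f x) := by
  haveI : Epi ((DerSch.stalkFunctor X x).map f) := inferInstance
  exact (ModuleCat.epi_iff_surjective _).1 this

theorem support_of_epi {A B : X.Modules} (f : A ⟶ B) [Epi f] :
    CohB1.support B ⊆ CohB1.support A := fun x hx hA =>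
  hx (@Function.Surjective.subsingleton _ _ _ hA (surjective_stalk f x))

theorem support_of_mono {A B : X.Modules} (f : A ⟶ B) [Mono f] :
    CohB1.support A ⊆ CohB1.support B := fun x hx hB =>
  hx (@Function.Injective.subsingleton _ _ _ (Groth.Agent.WeakAssLib.stalkHom_injective f x) hB)

theorem surjective_stalk_twistMap (I : X.IdealSheafData) (E : X.Modules) {x : X} (hx : x ∉ I.support) :
    Function.Surjective (stalkHom (ParSh.twistMap I E) x) := by
  haveI := Intersect.isIso_stalk_idealModι I hx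
  haveI : IsIso ((KFlat.stTensorIso E (ClSub.idealMod I) x).hom ≫
      (DerSch.stalkFunctor X x).map (((KFlat.schB X).map (𝟙 E)).app _ ≫
        ((KFlat.schB X).obj E).map (ClSub.idealModι I))) := by
    rw [← KFlat.stTensorIso_natural (𝟙 E) (ClSub.idealModι I) x]
    infer_instance
  haveI h1 := IsIso.of_isIso_comp_left (KFlat.stTensorIso E (ClSub.idealMod I) x).hom
    ((DerSch.stalkFunctor X x).map (((KFlat.schB X).map (𝟙 E)).app _ ≫
      ((KFlat.schB X).obj E).map (ClSub.idealModι I)))
  haveI : IsIso ((DerSch.stalkFunctor X x).map (ParSh.twistMap I E)) := by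
    rw [ParSh.twistMap, Functor.map_comp]
    haveI : IsIso ((DerSch.stalkFunctor X x).map (KoszTw.tensorMap (𝟙 E) (ClSub.idealModι I))) := h1
    infer_instance
  exact (ConcreteCategory.bijective_of_isIso ((DerSch.stalkFunctor X x).map (ParSh.twistMap I E))).2

/-- a quotient of `E` killed by `I·E` lives on `Supp E ∩ V(I)` -/
theorem support_cokernel_subset (I : X.IdealSheafData) {E : X.Modules} {A : Subobject E}
    (hA : ParSh.twistSub I E ≤ A) :
    CohB1.support (cokernel A.arrow) ⊆ CohB1.support E ∩ (I.support : Set X) := fun x hx => by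
  refine ⟨support_of_epi (cokernel.π A.arrow) hx, by_contra fun hI => hx ?_⟩
  have h0 : ParSh.twistMap I E ≫ cokernel.π A.arrow = 0 := by
    rw [← imageSubobject_arrow_comp (ParSh.twistMap I E), Category.assoc]
    show factorThruImageSubobject _ ≫ (ParSh.twistSub I E).arrow ≫ cokernel.π A.arrow = 0
    rw [← Subobject.ofLE_arrow hA, Category.assoc, cokernel.condition, comp_zero, comp_zero]
  refine subsingleton_of_forall_eq 0 fun m => ?_
  obtain ⟨e, rfl⟩ := surjective_stalk (cokernel.π A.arrow) x m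
  obtain ⟨t, rfl⟩ := surjective_stalk_twistMap I E hI e
  show (stalkHom (cokernel.π A.arrow) x) (stalkHom (ParSh.twistMap I E) x t) = 0
  rw [← Devissage.stalkHom_comp, h0, Devissage.stalkHom_zero]

variable (k : Type u) [Field k] [X.Over (Spec (CommRingCat.of k))]
  [IsProper (X ↘ Spec (CommRingCat.of k))] {L : X.Modules} (hL : CohB1.IsAmple L)

include k hL in
theorem isCoh_cokernel_arrow {E : X.Modules} (hE : Coh.IsCoh E) (A : Subobject E)
    (hA : Coh.IsCoh (A : X.Modules)) : Coh.IsCoh (cokernel A.arrow) :=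
  (Sh.inv k hL).ok_cokernel A.arrow hA hE

include k hL in
/-- `P = P_A + H_A` -/
theorem hilb_add {E : X.Modules} (hE : Coh.IsCoh E) {A : Subobject E} (hA : Coh.IsCoh (A : X.Modules))
    {P PA H : ℚ[X]} (hP : ShStab.IsHilbPoly k X L E P) (hPA : ShStab.IsHilbPoly k X L (A : X.Modules) PA)
    (hH : ShStab.IsHilbPoly k X L (cokernel A.arrow) H) : P = PA + H := by
  rw [(Sh.hilb_iff k hL.1 hE P).1 hP, (Sh.hilb_iff k hL.1 hA PA).1 hPA,
    (Sh.hilb_iff k hL.1 (isCoh_cokernel_arrow k hL hE A hA) H).1 hH]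
  exact (Sh.inv k hL).hp_cokernel A.arrow hA hE

include k hL in
/-- the coefficients from the dimension on vanish, the one just below is non-negative -/
theorem coeff_small {F : X.Modules} (hF : Coh.IsCoh F) {d : ℕ}
    (hd : topologicalKrullDim (CohB1.support F) < (d : WithBot ℕ∞)) :
    (∀ n, d ≤ n → (Sh.hp k L F).coeff n = 0) ∧ 0 ≤ (Sh.hp k L F).coeff (d - 1) := by
  by_cases h0 : IsZero F
  · rw [show Sh.hp k L F = 0 from (Sh.inv k hL).hp_zero h0 hF]
    simp
  obtain ⟨e, he⟩ := Sh.exists_dim k h0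
  rw [he, Nat.cast_lt] at hd
  obtain ⟨hdeg, hpos⟩ := Sh.hp_pos_deg k hL hF he
  refine ⟨fun n hn => Polynomial.coeff_eq_zero_of_natDegree_lt (by omega), ?_⟩
  rcases (Nat.le_sub_one_of_lt hd).lt_or_eq with h | h
  · exact (Polynomial.coeff_eq_zero_of_natDegree_lt (by omega)).ge
  · rw [← h, ← hdeg]
    exact le_of_lt hpos

section Induced

variable {E W : X.Modules} (ι : W ⟶ E) [Mono ι] (𝓔 : ParSh.Str E)

theorem pieceX_induced (j : Fin (𝓔.l + 2)) :
    (𝓔.induced ι).pieceX j = (Subobject.pullback ι).obj (𝓔.pieceX j) := by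
  induction j using Fin.lastCases with
  | last => exact ((𝓔.induced ι).pieceX_last).trans (congrArg _ 𝓔.pieceX_last.symm)
  | cast j => exact ((𝓔.induced ι).pieceX_castSucc j).trans (congrArg _ (𝓔.pieceX_castSucc j).symm)

/-- the pulled back piece is the kernel of the map to the quotient -/
theorem pullback_eq_kernelSubobject (A : Subobject E) :
    (Subobject.pullback ι).obj A = kernelSubobject (ι ≫ cokernel.π A.arrow) := by
  refine le_antisymm (le_kernelSubobject _ _ ?_) ?_
  · rw [← Category.assoc, ← (Subobject.isPullback ι A).w, Category.assoc, cokernel.condition, comp_zero]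
  · have h : (kernelSubobject (ι ≫ cokernel.π A.arrow)).arrow ≫ ι ≫ cokernel.π A.arrow = 0 :=
      kernelSubobject_arrow_comp _
    rw [← Category.assoc] at h
    let a := Abelian.monoLift A.arrow _ h
    have ha : a ≫ A.arrow = _ := Abelian.monoLift_comp A.arrow _ h
    exact Subobject.le_of_comm ((Subobject.isPullback ι A).lift a _ ha) ((Subobject.isPullback ι A).lift_snd a _ ha)

theorem exists_mono_cokernel (A : Subobject E) :
    ∃ c : cokernel ((Subobject.pullback ι).obj A).arrow ⟶ cokernel A.arrow, Mono c := by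
  rw [pullback_eq_kernelSubobject ι A]
  let f := ι ≫ cokernel.π A.arrow
  let e : cokernel (kernelSubobject f).arrow ≅ Abelian.coimage f :=
    (cokernelIsoOfEq (kernelSubobject_arrow f).symm) ≪≫ cokernelEpiComp _ _
  exact ⟨e.hom ≫ Abelian.factorThruCoimage f, mono_comp _ _⟩

include k hL in
theorem isCoh_pullback (hE : Coh.IsCoh E) (hW : Coh.IsCoh W) {A : Subobject E} (hA : Coh.IsCoh (A : X.Modules)) :
    Coh.IsCoh (((Subobject.pullback ι).obj A : Subobject W) : X.Modules) := by
  rw [pullback_eq_kernelSubobject ι A]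
  exact CohFinite.isCoh_of_iso (kernelSubobjectIso (ι ≫ cokernel.π A.arrow)).symm
    ((Sh.inv k hL).ok_kernel _ hW (isCoh_cokernel_arrow k hL hE A hA))

end Induced

/-- summation by parts -/
theorem parts (n : ℕ) (f v : Fin (n + 2) → ℝ) :
    ∑ j : Fin (n + 1), v j.castSucc * (f j.succ - f j.castSucc) =
      v (Fin.last _) * f (Fin.last _) - v 0 * f 0 - ∑ j : Fin (n + 1), (v j.succ - v j.castSucc) * f j.succ := by
  have e : ∀ j : Fin (n + 1), v j.castSucc * (f j.succ - f j.castSucc) + (v j.succ - v j.castSucc) * f j.succ =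
      v j.succ * f j.succ - v j.castSucc * f j.castSucc := fun j => by ring
  rw [eq_sub_iff_add_eq, ← Finset.sum_add_distrib, Finset.sum_congr rfl fun j _ => e j, Finset.sum_sub_distrib]
  have h1 := Fin.sum_univ_succ (fun i : Fin (n + 2) => v i * f i)
  have h2 := Fin.sum_univ_castSucc (fun i : Fin (n + 2) => v i * f i)
  linarith

section Par

variable {E : X.Modules} (𝓔 : ParSh.Str E)

theorem pieceX_zero : 𝓔.pieceX 0 = ⊤ := by
  rw [show (0 : Fin (𝓔.l + 2)) = (0 : Fin (𝓔.l + 1)).castSucc from rfl, 𝓔.pieceX_castSucc, 𝓔.piece_zero]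

theorem wtX_succ_sub_nonneg (j : Fin (𝓔.l + 1)) : 0 ≤ 𝓔.wtX j.succ - 𝓔.wtX j.castSucc := by
  rw [sub_nonneg, 𝓔.wtX_castSucc]
  induction j using Fin.lastCases with
  | last => rw [Fin.succ_last, 𝓔.wtX_last]; exact 𝓔.wt_lt_one.le
  | cast j =>
    rw [Fin.succ_castSucc, 𝓔.wtX_castSucc]
    exact 𝓔.wt_strictMono.monotone (Fin.castSucc_lt_succ).le

theorem wtX_succ_sub_pos (j : Fin (𝓔.l + 1)) : 0 < 𝓔.wtX j.succ - 𝓔.wtX j.castSucc := by
  rw [sub_pos, 𝓔.wtX_castSucc]
  induction j using Fin.lastCases with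
  | last => rw [Fin.succ_last, 𝓔.wtX_last]; exact 𝓔.wt_lt_one
  | cast j =>
    rw [Fin.succ_castSucc, 𝓔.wtX_castSucc]
    exact 𝓔.wt_strictMono Fin.castSucc_lt_succ

open W4swparbununimod in
include k hL in
/-- `Par = P − Σ (w_j − w_{j-1}) H_j` -/
theorem parPoly_eq (hE : Coh.IsCoh E) (hcoh : ∀ j, Coh.IsCoh ((𝓔.pieceX j : Subobject E) : X.Modules))
    {P : ℚ[X]} (hP : ShStab.IsHilbPoly k X L E P) {PX : Fin (𝓔.l + 2) → ℚ[X]}
    (hPX : ∀ j, ShStab.IsHilbPoly k X L ((𝓔.pieceX j : Subobject E) : X.Modules) (PX j))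
    {H : Fin (𝓔.l + 2) → ℚ[X]} (hH : ∀ j, ShStab.IsHilbPoly k X L (cokernel (𝓔.pieceX j).arrow) (H j)) (n : ℕ) :
    (parPoly 𝓔 PX).coeff n = (P.coeff n : ℝ) -
      ∑ j : Fin (𝓔.l + 1), (𝓔.wtX j.succ - 𝓔.wtX j.castSucc) * ((H j.succ).coeff n : ℝ) := by
  have e : ∀ j, (((PX j).coeff n : ℚ) : ℝ) = (P.coeff n : ℝ) - (H j).coeff n := fun j => by
    rw [hilb_add k hL hE (hcoh j) hP (hPX j) (hH j), Polynomial.coeff_add]; push_cast; ring
  have h0 : H 0 = 0 := by
    have hz : IsZero (cokernel (𝓔.pieceX 0).arrow) := by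
      rw [pieceX_zero]
      haveI : IsIso (⊤ : Subobject E).arrow := inferInstance
      exact isZero_cokernel_of_epi _
    rw [(Sh.hilb_iff k hL.1 (isCoh_cokernel_arrow k hL hE _ (hcoh 0)) _).1 (hH 0)]
    exact (Sh.inv k hL).hp_zero hz (isCoh_cokernel_arrow k hL hE _ (hcoh 0))
  have h := parts 𝓔.l (fun j => ((H j).coeff n : ℝ)) 𝓔.wtX
  simp only [parPoly, Polynomial.coeff_add, Polynomial.finsetSum_coeff, Polynomial.coeff_C_mul,
    Polynomial.coeff_sub, Polynomial.coeff_map, eq_ratCast, e]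
  simp only [h0, Polynomial.coeff_zero, Rat.cast_zero, mul_zero, sub_zero, 𝓔.wtX_last, one_mul,
    𝓔.wtX_castSucc] at h
  simp only [sub_sub_sub_cancel_left, 𝓔.wtX_castSucc]
  linarith

end Par

end Groth.Agent.ParHilbLib
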