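import Groth.Agent.ParHilbLib.Extension

/-!
Comparing parabolic Hilbert functions piece by piece, and the equality case.
-/

set_option autoImplicit false
set_option linter.style.haveILetI false
set_option linter.unusedSectionVars false
set_option backward.isDefEq.respectTransparency false
set_option backward.isDefEq.respectTransparency.types false
set_option maxHeartbeats 1000000

universe u

open CategoryTheory CategoryTheory.Limits AlgebraicGeometry
open scoped Polynomial
open Groth.Agent.StabLib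
open W4swparbununimod (rpoly parPoly)
open Filter

noncomputable section

namespace Groth.Agent.ParHilbLib

variable {X : Scheme.{u}}

theorem eq_of_eventually {P Q : ℝ[X]} (h : ∀ᶠ m : ℕ in atTop, P.eval (m : ℝ) = Q.eval (m : ℝ)) : P = Q := by
  obtain ⟨N, hN⟩ := eventually_atTop.1 h
  refine Polynomial.eq_of_infinite_eval_eq P Q (Set.Infinite.mono (fun x hx => ?_)
    ((Set.Ici_infinite N).image (Nat.cast_injective.injOn (s := Set.Ici N) (f := fun n : ℕ => (n : ℝ)))))
  obtain ⟨m, hm, rfl⟩ := hx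
  exact hN m hm

theorem eq_of_nn_of_eventually {P Q : ℚ[X]} (hle : ∀ᶠ m : ℕ in atTop, Q.eval (m : ℚ) ≤ P.eval (m : ℚ))
    (h : Nn (Q - P)) : P = Q := by
  refine (sub_eq_zero.1 (eq_zero_of_nn_neg h ?_)).symm
  exact nn_of_eventually (hle.mono fun m hm => by simp only [neg_sub, Polynomial.eval_sub, sub_nonneg]; exact hm)

theorem isZero_subobject_eq {V : X.Modules} (hV : IsZero V) (A B : Subobject V) : A = B :=
  le_antisymm (Subobject.le_of_comm 0 (hV.eq_of_tgt _ _)) (Subobject.le_of_comm 0 (hV.eq_of_tgt _ _))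

theorem pullback_factors {W E : X.Modules} (ι : W ⟶ E) (B : Subobject E) {Z : X.Modules} (g : Z ⟶ W)
    (h : B.Factors (g ≫ ι)) : ((Subobject.pullback ι).obj B).Factors g := by
  refine (Subobject.factors_iff _ _).2 ⟨(Subobject.isPullback ι B).lift (B.factorThru _ h) g
    (Subobject.factorThru_arrow _ _ h), ?_⟩
  exact (Subobject.isPullback ι B).lift_snd _ _ _

theorem image_le_pullback {E V F : X.Modules} (q : E ⟶ V) (u : V ⟶ F) (A : Subobject E) (B : Subobject F)
    (h : B.Factors (A.arrow ≫ q ≫ u)) : imageSubobject (A.arrow ≫ q) ≤ (Subobject.pullback u).obj B :=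
  imageSubobject_le _ (((Subobject.pullback u).obj B).factorThru (A.arrow ≫ q)
    (pullback_factors u B _ (by rw [Category.assoc]; exact h))) (Subobject.factorThru_arrow _ _ _)

section Match

variable {A B : X.Modules} (S : ParSh.Str A) (T : ParSh.Str B)

theorem wt_match (hw : Set.range T.wt = Set.range S.wt) :
    ∃ hl : S.l = T.l, ∀ j, T.wt (Fin.cast (congrArg (· + 1) hl) j) = S.wt j := by
  have hT := Set.card_range_of_injective T.wt_strictMono.injective
  have hS := Set.card_range_of_injective S.wt_strictMono.injective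
  have hl : S.l = T.l := by
    have e := congrArg Nat.card (congrArg (fun s : Set ℝ => (s : Type)) hw)
    rw [Nat.card_range_of_injective T.wt_strictMono.injective,
      Nat.card_range_of_injective S.wt_strictMono.injective, Nat.card_fin, Nat.card_fin] at e
    omega
  refine ⟨hl, fun j => ?_⟩
  have h' : StrictMono (T.wt ∘ Fin.cast (congrArg (· + 1) hl)) := fun a b hab =>
    T.wt_strictMono (show Fin.cast _ a < Fin.cast _ b from hab)
  have hr : Set.range (T.wt ∘ Fin.cast (congrArg (· + 1) hl)) = Set.range S.wt := by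
    rw [Function.Surjective.range_comp, hw]
    exact fun y => ⟨Fin.cast (congrArg (· + 1) hl).symm y, rfl⟩
  exact congrFun ((h'.range_inj S.wt_strictMono).1 hr) j

variable {S T}

theorem at_wt (S : ParSh.Str A) (j : Fin (S.l + 1)) : S.at (S.wt j) = S.piece j :=
  S.at_eq_piece j le_rfl fun _ h => S.wt_strictMono h

theorem at_one (S : ParSh.Str A) : S.at 1 = S.bot :=
  S.at_eq_bot fun j => (S.wt_strictMono.monotone (Fin.le_last j)).trans_lt S.wt_lt_one

theorem factors_pieceX {f : A ⟶ B} (hf : ParSh.IsParHom S T f) (hl : S.l = T.l)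
    (hwt : ∀ j, T.wt (Fin.cast (congrArg (· + 1) hl) j) = S.wt j) (j : Fin (S.l + 2)) :
    (T.pieceX (Fin.cast (congrArg (· + 2) hl) j)).Factors ((S.pieceX j).arrow ≫ f) := by
  induction j using Fin.lastCases with
  | last =>
    have h := hf 1 zero_le_one le_rfl
    rw [at_one, at_one] at h
    rw [show Fin.cast (congrArg (· + 2) hl) (Fin.last (S.l + 1)) = Fin.last (T.l + 1) from
      Fin.ext (by simp [hl]), T.pieceX_last, S.pieceX_last]
    exact h
  | cast j =>
    have h := hf (S.wt j) (S.wt_nonneg.trans (S.wt_strictMono.monotone (Fin.zero_le _)))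
      ((S.wt_strictMono.monotone (Fin.le_last j)).trans S.wt_lt_one.le)
    rw [at_wt] at h
    rw [← hwt j, at_wt] at h
    rw [show Fin.cast (congrArg (· + 2) hl) j.castSucc = (Fin.cast (congrArg (· + 1) hl) j).castSucc from
      Fin.ext rfl, T.pieceX_castSucc, S.pieceX_castSucc]
    exact h

theorem at_congr {S T : ParSh.Str A} (hl : S.l = T.l)
    (hwt : ∀ j, T.wt (Fin.cast (congrArg (· + 1) hl) j) = S.wt j)
    (h : ∀ j, T.pieceX (Fin.cast (congrArg (· + 2) hl) j) = S.pieceX j) (a : ℝ) : S.at a = T.at a := by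
  obtain ⟨l, piece, bot, wt, p0, pa, bl, wm, wn, w1⟩ := T
  dsimp only at hl
  subst hl
  have hwt' : wt = S.wt := funext fun j => hwt j
  subst hwt'
  have hb : bot = S.bot := by
    have := h (Fin.last _)
    rw [S.pieceX_last] at this
    rw [← this]
    exact (ParSh.Str.pieceX_last ⟨S.l, piece, bot, S.wt, p0, pa, bl, wm, wn, w1⟩).symm
  have hp : piece = S.piece := funext fun j => by
    have := h j.castSucc
    rw [S.pieceX_castSucc] at this
    rw [← this]
    exact (ParSh.Str.pieceX_castSucc ⟨S.l, piece, bot, S.wt, p0, pa, bl, wm, wn, w1⟩ j).symm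
  subst hb hp
  rfl

end Match

variable (k : Type u) [Field k] [X.Over (Spec (CommRingCat.of k))]
  [IsProper (X ↘ Spec (CommRingCat.of k))] {L : X.Modules} (hL : CohB1.IsAmple L)

include k hL in
theorem eq_of_hp_eq {A : X.Modules} (hA : Coh.IsCoh A) {P Q : Subobject A} (h : P ≤ Q)
    (hP : Coh.IsCoh (P : X.Modules)) (hQ : Coh.IsCoh (Q : X.Modules))
    (he : Sh.hp k L (P : X.Modules) = Sh.hp k L (Q : X.Modules)) : P = Q := by
  have h1 : Sh.hp k L (Q : X.Modules) =
      Sh.hp k L (P : X.Modules) + Sh.hp k L (cokernel (Subobject.ofLE P Q h)) :=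
    (Sh.inv k hL).hp_cokernel (Subobject.ofLE P Q h) hP hQ
  rw [← he, left_eq_add] at h1
  have hz : IsZero (cokernel (Subobject.ofLE P Q h)) :=
    ((Sh.inv k hL).hp_eq_zero_iff ((Sh.inv k hL).ok_cokernel _ hP hQ)).1 h1
  haveI : Epi (Subobject.ofLE P Q h) := Abelian.epi_of_cokernel_π_eq_zero _ (hz.eq_of_tgt _ _)
  haveI := isIso_of_mono_of_epi (Subobject.ofLE P Q h)
  exact le_antisymm h (Subobject.le_of_comm (inv (Subobject.ofLE P Q h))
    ((IsIso.inv_comp_eq _).2 (Subobject.ofLE_arrow h).symm))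

include k hL in
theorem hp_top {A : X.Modules} (hA : Coh.IsCoh A) :
    Sh.hp k L ((⊤ : Subobject A) : X.Modules) = Sh.hp k L A :=
  (((Sh.inv k hL).hp_iso (asIso (⊤ : Subobject A).arrow).symm hA)).symm

include k hL in
/-- `Par = w₀ χ(F₀) + Σ (w_j − w_{j−1}) χ(F_j)` -/
theorem parHilb_abel {A : X.Modules} (S : ParSh.Str A)
    (hS : ∀ j, Coh.IsCoh ((S.pieceX j : Subobject A) : X.Modules)) (m : ℕ) :
    S.parHilb k X L m = S.wt 0 * (((Sh.hp k L ((S.pieceX 0 : Subobject A) : X.Modules)).eval (m : ℚ) : ℚ) : ℝ) +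
      ∑ j : Fin (S.l + 1), (S.wtX j.succ - S.wtX j.castSucc) *
        (((Sh.hp k L ((S.pieceX j.succ : Subobject A) : X.Modules)).eval (m : ℚ) : ℚ) : ℝ) := by
  let f : Fin (S.l + 2) → ℝ := fun j =>
    (((Sh.hp k L ((S.pieceX j : Subobject A) : X.Modules)).eval (m : ℚ) : ℚ) : ℝ)
  rw [parHilb_eq k S (fun j => Sh.isHilbPoly_hp k hL.1 (hS j)) m]
  simp only [parPoly, Polynomial.eval_add, Polynomial.eval_finsetSum, Polynomial.eval_mul, Polynomial.eval_C,
    Polynomial.eval_sub, eval_rpoly]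
  have h := parts S.l f S.wtX
  rw [show (0 : Fin (S.l + 2)) = (0 : Fin (S.l + 1)).castSucc from rfl] at h ⊢
  simp only [S.wtX_castSucc, S.wtX_last, one_mul] at h ⊢
  have hneg : ∑ j : Fin (S.l + 1), S.wt j * (f j.castSucc - f j.succ) =
      - ∑ j : Fin (S.l + 1), S.wt j * (f j.succ - f j.castSucc) := by
    rw [← Finset.sum_neg_distrib]; exact Finset.sum_congr rfl fun j _ => by ring
  show f (Fin.last _) + ∑ j : Fin (S.l + 1), S.wt j * (f j.castSucc - f j.succ) =
    S.wt 0 * f (0 : Fin (S.l + 1)).castSucc + ∑ j : Fin (S.l + 1), (S.wtX j.succ - S.wt j) * f j.succ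
  rw [hneg, h]
  ring

include k hL in
/-- piecewise comparison, with the equality case -/
theorem parHilb_compare {A B : X.Modules} (S : ParSh.Str A) (T : ParSh.Str B) (hl : S.l = T.l)
    (hwt : ∀ j, T.wt (Fin.cast (congrArg (· + 1) hl) j) = S.wt j)
    (hS : ∀ j, Coh.IsCoh ((S.pieceX j : Subobject A) : X.Modules))
    (hT : ∀ j, Coh.IsCoh ((T.pieceX j : Subobject B) : X.Modules))
    (h : ∀ j, Nn (Sh.hp k L ((T.pieceX (Fin.cast (congrArg (· + 2) hl) j) : Subobject B) : X.Modules) -
      Sh.hp k L ((S.pieceX j : Subobject A) : X.Modules))) :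
    (∀ᶠ m : ℕ in atTop, S.parHilb k X L m ≤ T.parHilb k X L m) ∧
      ((∀ᶠ m : ℕ in atTop, T.parHilb k X L m ≤ S.parHilb k X L m) →
        ∀ j, (0 < S.wt 0 ∨ j ≠ 0) →
          Sh.hp k L ((S.pieceX j : Subobject A) : X.Modules) =
            Sh.hp k L ((T.pieceX (Fin.cast (congrArg (· + 2) hl) j) : Subobject B) : X.Modules)) := by
  let a : Fin (S.l + 2) → ℚ[X] := fun j => Sh.hp k L ((S.pieceX j : Subobject A) : X.Modules)
  let b : Fin (S.l + 2) → ℚ[X] := fun j =>
    Sh.hp k L ((T.pieceX (Fin.cast (congrArg (· + 2) hl) j) : Subobject B) : X.Modules)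
  let e : ℕ → Fin (S.l + 2) → ℝ := fun m j => (((b j).eval (m : ℚ) : ℚ) : ℝ) - (((a j).eval (m : ℚ) : ℚ) : ℝ)
  have hdiff : ∀ m : ℕ, T.parHilb k X L m - S.parHilb k X L m =
      S.wt 0 * e m 0 + ∑ j : Fin (S.l + 1), (S.wtX j.succ - S.wtX j.castSucc) * e m j.succ := fun m => by
    rw [parHilb_abel k hL S hS, parHilb_abel k hL T hT]
    obtain ⟨l, piece, bot, wt, p0, pa, bl, wm, wn, w1⟩ := T
    dsimp only at hl
    subst hl
    have hwt' : wt = S.wt := funext fun j => hwt j
    subst hwt'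
    rw [add_sub_add_comm]
    refine congrArg₂ (· + ·) (mul_sub _ _ _).symm ((Finset.sum_sub_distrib _ _).symm.trans
      (Finset.sum_congr rfl fun j _ => (mul_sub _ _ _).symm))
  have hev : ∀ᶠ m : ℕ in atTop, ∀ j, 0 ≤ e m j := (eventually_all.2 fun j => (h j).eventually).mono
    fun m hm j => sub_nonneg.2 (Rat.cast_le.2 (sub_nonneg.1 (by
      have := hm j
      rwa [Polynomial.eval_sub] at this)))
  refine ⟨hev.mono fun m hm => sub_nonneg.1 ?_, fun hge j hj => ?_⟩
  · rw [hdiff]
    exact add_nonneg (mul_nonneg S.wt_nonneg (hm 0))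
      (Finset.sum_nonneg fun i _ => mul_nonneg (wtX_succ_sub_nonneg S i) (hm _))
  · refine eq_of_nn_of_eventually ?_ (h j)
    refine (hev.and hge).mono fun m hm => Rat.cast_le.1 (sub_nonpos.1 (le_of_eq (?_ : e m j = 0)) : _ ≤ ((_ : ℚ) : ℝ))
    have hsum := hdiff m
    have h0 : 0 ≤ S.wt 0 * e m 0 := mul_nonneg S.wt_nonneg (hm.1 0)
    have h1 : ∀ i ∈ (Finset.univ : Finset (Fin (S.l + 1))),
        0 ≤ (S.wtX i.succ - S.wtX i.castSucc) * e m i.succ := fun i _ =>
      mul_nonneg (wtX_succ_sub_nonneg S i) (hm.1 _)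
    have h2 := Finset.sum_nonneg h1
    induction j using Fin.cases with
    | zero =>
      rcases hj with hj | hj
      · have : S.wt 0 * e m 0 = 0 := by linarith [hm.2]
        exact (mul_eq_zero.1 this).resolve_left hj.ne'
      · exact absurd rfl hj
    | succ i =>
      have hz := (Finset.sum_eq_zero_iff_of_nonneg h1).1 (by linarith [hm.2]) i (Finset.mem_univ _)
      exact (mul_eq_zero.1 hz).resolve_left (wtX_succ_sub_pos S i).ne'

end Groth.Agent.ParHilbLib
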