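import Groth.Agent.ParHilbLib.Basic

/-!
Evaluations, coefficients and comparison of parabolic Hilbert polynomials.
-/

set_option autoImplicit false
set_option linter.style.haveILetI false
set_option linter.unusedSectionVars false
set_option backward.isDefEq.respectTransparency false
set_option backward.isDefEq.respectTransparency.types false
set_option maxHeartbeats 1000000

universe u

open CategoryTheory CategoryTheory.Limits AlgebraicGeometry
open scoped Polynomial Topology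
open Groth.Agent.StabLib
open W4swparbununimod (rpoly parPoly parPolyOne)
open Filter

noncomputable section

namespace Groth.Agent.ParHilbLib

theorem eval_rpoly (P : ℚ[X]) (m : ℕ) : (rpoly P).eval (m : ℝ) = ((P.eval (m : ℚ) : ℚ) : ℝ) := by
  rw [rpoly, Polynomial.eval_natCast_map]
  rfl

theorem coeff_rpoly (P : ℚ[X]) (n : ℕ) : (rpoly P).coeff n = (P.coeff n : ℝ) := by
  simp [rpoly]

/-- sign of a real polynomial of degree at most `n` -/
theorem coeff_nonpos_of_eventually {R : ℝ[X]} {n : ℕ} (hR : ∀ i, n < i → R.coeff i = 0)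
    (h : ∃ M : ℕ, ∀ m : ℕ, M ≤ m → R.eval (m : ℝ) ≤ 0) : R.coeff n ≤ 0 := by
  by_contra hn
  push Not at hn
  have hdeg : R.natDegree = n := le_antisymm (Polynomial.natDegree_le_iff_coeff_eq_zero.2 hR)
    (Polynomial.le_natDegree_of_ne_zero hn.ne')
  obtain ⟨M, hM⟩ := h
  rcases Nat.eq_zero_or_pos n with rfl | hpos
  · have := hM M le_rfl
    rw [Polynomial.eq_C_of_natDegree_eq_zero hdeg, Polynomial.eval_C] at this
    linarith
  · have ht := (R.tendsto_atTop_of_leadingCoeff_nonneg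
      (Polynomial.natDegree_pos_iff_degree_pos.1 (hdeg.symm ▸ hpos))
      (by rw [Polynomial.leadingCoeff, hdeg]; exact hn.le)).comp (tendsto_natCast_atTop_atTop (R := ℝ))
    obtain ⟨m, hm1, hm2⟩ := ((ht.eventually (eventually_gt_atTop 0)).and (eventually_ge_atTop M)).exists
    exact absurd (hM m hm2) (not_le.2 hm1)

theorem eventually_neg_of_coeff {R : ℝ[X]} {n : ℕ} (hR : ∀ i, n < i → R.coeff i = 0) (hn : R.coeff n < 0) :
    ∃ M : ℕ, ∀ m : ℕ, M ≤ m → R.eval (m : ℝ) < 0 := by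
  have hdeg : R.natDegree = n := le_antisymm (Polynomial.natDegree_le_iff_coeff_eq_zero.2 hR)
    (Polynomial.le_natDegree_of_ne_zero hn.ne)
  rcases Nat.eq_zero_or_pos n with rfl | hpos
  · refine ⟨0, fun m _ => ?_⟩
    rw [Polynomial.eq_C_of_natDegree_eq_zero hdeg, Polynomial.eval_C]
    exact hn
  · have ht := (R.tendsto_atBot_of_leadingCoeff_nonpos
      (Polynomial.natDegree_pos_iff_degree_pos.1 (hdeg.symm ▸ hpos))
      (by rw [Polynomial.leadingCoeff, hdeg]; exact hn.le)).comp (tendsto_natCast_atTop_atTop (R := ℝ))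
    exact eventually_atTop.1 (ht.eventually (eventually_lt_atBot 0))

/-- `P(n)/n^e → P_e` -/
theorem tendsto_div_pow (P : ℚ[X]) {e : ℕ} (he : P.natDegree ≤ e) :
    Tendsto (fun n : ℕ => ((P.eval (n : ℚ) : ℚ) : ℝ) / (n : ℝ) ^ e) atTop (𝓝 (P.coeff e : ℝ)) := by
  have hsum : ∀ n : ℕ, ((P.eval (n : ℚ) : ℚ) : ℝ) =
      ∑ i ∈ Finset.range (e + 1), (P.coeff i : ℝ) * (n : ℝ) ^ i := fun n => by
    rw [Polynomial.eval_eq_sum_range' (Nat.lt_succ_of_le he)]
    push_cast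
    rfl
  have hterm : ∀ i ∈ Finset.range (e + 1), Tendsto (fun n : ℕ => (P.coeff i : ℝ) * ((n : ℝ) ^ i / (n : ℝ) ^ e))
      atTop (𝓝 (if i = e then (P.coeff e : ℝ) else 0)) := fun i hi => by
    split_ifs with h
    · subst h
      refine tendsto_const_nhds.congr' ((eventually_ge_atTop 1).mono fun n hn => ?_)
      have hne : (n : ℝ) ≠ 0 := by exact_mod_cast (by omega : n ≠ 0)
      simp only [div_self (pow_ne_zero _ hne), mul_one]
    · have h1 : i < e := lt_of_le_of_ne (Finset.mem_range_succ_iff.1 hi) h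
      simpa using tendsto_const_nhds.mul
        ((tendsto_pow_div_pow_atTop_zero h1).comp (tendsto_natCast_atTop_atTop (R := ℝ)))
  have hlim := tendsto_finsetSum _ hterm
  rw [Finset.sum_ite_eq' (Finset.range (e + 1)) e, if_pos (Finset.mem_range.2 e.lt_succ_self)] at hlim
  refine hlim.congr fun n => ?_
  rw [hsum, Finset.sum_div]
  exact Finset.sum_congr rfl fun i _ => by ring

theorem tendsto_ratio (P Q : ℚ[X]) {e : ℕ} (hP : P.natDegree ≤ e) (hQ : Q.natDegree ≤ e) (h0 : Q.coeff e ≠ 0) :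
    Tendsto (fun n : ℕ => ((P.eval (n : ℚ) : ℚ) : ℝ) / ((Q.eval (n : ℚ) : ℚ) : ℝ)) atTop
      (𝓝 ((StabCat.alpha e P / StabCat.alpha e Q : ℚ) : ℝ)) := by
  have hlim := (tendsto_div_pow P hP).div (tendsto_div_pow Q hQ) (by exact_mod_cast h0)
  have hf : (e.factorial : ℚ) ≠ 0 := by exact_mod_cast e.factorial_ne_zero
  rw [StabCat.alpha, StabCat.alpha, mul_div_mul_left _ _ hf, Rat.cast_div]
  refine hlim.congr' ((eventually_ge_atTop 1).mono fun n hn => ?_)
  have hne : (n : ℝ) ≠ 0 := by exact_mod_cast (by omega : n ≠ 0)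
  exact div_div_div_cancel_right₀ (pow_ne_zero _ hne) _ _

variable {X : Scheme.{u}} (k : Type u) [Field k] [X.Over (Spec (CommRingCat.of k))]
  [IsProper (X ↘ Spec (CommRingCat.of k))] {L : X.Modules} (hL : CohB1.IsAmple L)
  {E : X.Modules} (hE : Coh.IsCoh E) (𝓔 : ParSh.Str E)
  (hcoh : ∀ j, Coh.IsCoh ((𝓔.pieceX j : Subobject E) : X.Modules))

/-- the quotient polynomials -/
def hq (j : Fin (𝓔.l + 2)) : ℚ[X] := Sh.hp k L (cokernel (𝓔.pieceX j).arrow)

include hL hE hcoh in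
theorem isHilbPoly_hq (j : Fin (𝓔.l + 2)) :
    ShStab.IsHilbPoly k X L (cokernel (𝓔.pieceX j).arrow) (hq k (L := L) 𝓔 j) :=
  Sh.isHilbPoly_hp k hL.1 (isCoh_cokernel_arrow k hL hE _ (hcoh j))

variable {P : ℚ[X]} (hP : ShStab.IsHilbPoly k X L E P) {PX : Fin (𝓔.l + 2) → ℚ[X]}
  (hPX : ∀ j, ShStab.IsHilbPoly k X L ((𝓔.pieceX j : Subobject E) : X.Modules) (PX j))

include hL hE hcoh hP hPX in
theorem parPoly_eval {H : Fin (𝓔.l + 2) → ℚ[X]}
    (hH : ∀ j, ShStab.IsHilbPoly k X L (cokernel (𝓔.pieceX j).arrow) (H j)) (m : ℕ) :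
    (parPoly 𝓔 PX).eval (m : ℝ) = ((P.eval (m : ℚ) : ℚ) : ℝ) -
      ∑ j : Fin (𝓔.l + 1), (𝓔.wtX j.succ - 𝓔.wtX j.castSucc) * (((H j.succ).eval (m : ℚ) : ℚ) : ℝ) := by
  have h : parPoly 𝓔 PX = rpoly P -
      ∑ j : Fin (𝓔.l + 1), Polynomial.C (𝓔.wtX j.succ - 𝓔.wtX j.castSucc) * rpoly (H j.succ) := by
    ext n
    rw [parPoly_eq k hL 𝓔 hE hcoh hP hPX hH n]
    simp only [Polynomial.coeff_sub, Polynomial.finsetSum_coeff, Polynomial.coeff_C_mul, coeff_rpoly]
  rw [h, Polynomial.eval_sub, Polynomial.eval_finsetSum, eval_rpoly]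
  congr 1
  exact Finset.sum_congr rfl fun j _ => by rw [Polynomial.eval_mul, Polynomial.eval_C, eval_rpoly]

include hPX in
theorem parHilb_eq (m : ℕ) : 𝓔.parHilb k X L m = (parPoly 𝓔 PX).eval (m : ℝ) := by
  have e : ∀ j, ((Curv2.euler k X (ShStab.twist X L ((𝓔.pieceX j : Subobject E) : X.Modules) m) : ℤ) : ℝ) =
      (((PX j).eval (m : ℚ) : ℚ) : ℝ) := fun j => by
    rw [← hPX j m]; push_cast; rfl
  simp only [ParSh.Str.parHilb, ParSh.Str.parSum, parPoly, Polynomial.eval_add, Polynomial.eval_finsetSum,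
    Polynomial.eval_mul, Polynomial.eval_C, Polynomial.eval_sub, eval_rpoly, ← e, 𝓔.pieceX_last,
    𝓔.pieceX_castSucc]

section Along

variable {I : X.IdealSheafData} (h𝓔 : 𝓔.Along I) {d : ℕ}
  (hsupp : topologicalKrullDim ↥(CohB1.support E ∩ (I.support : Set X)) < (d : WithBot ℕ∞))

include h𝓔 in
theorem support_quot (j : Fin (𝓔.l + 2)) :
    CohB1.support (cokernel (𝓔.pieceX j).arrow) ⊆ CohB1.support E ∩ (I.support : Set X) :=
  support_cokernel_subset I (h𝓔.symm.trans_le (𝓔.bot_le_pieceX j))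

include hsupp in
theorem dim_lt {S : Set X} (hS : S ⊆ CohB1.support E ∩ (I.support : Set X)) :
    topologicalKrullDim S < (d : WithBot ℕ∞) :=
  lt_of_le_of_lt (Topology.IsEmbedding.inclusion hS).isInducing.topologicalKrullDim_le hsupp

include hL hE hcoh h𝓔 hsupp in
theorem quot_small {H : Fin (𝓔.l + 2) → ℚ[X]}
    (hH : ∀ j, ShStab.IsHilbPoly k X L (cokernel (𝓔.pieceX j).arrow) (H j)) (j : Fin (𝓔.l + 2)) :
    (∀ n, d ≤ n → (H j).coeff n = 0) ∧ 0 ≤ (H j).coeff (d - 1) := by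
  have hc := isCoh_cokernel_arrow k hL hE _ (hcoh j)
  rw [(Sh.hilb_iff k hL.1 hc _).1 (hH j)]
  exact coeff_small k hL hc (dim_lt hsupp (support_quot 𝓔 h𝓔 j))

include hL hE hcoh hP hPX h𝓔 hsupp in
theorem parPoly_coeff_top (n : ℕ) (hn : d ≤ n) : (parPoly 𝓔 PX).coeff n = (P.coeff n : ℝ) := by
  rw [parPoly_eq k hL 𝓔 hE hcoh hP hPX (isHilbPoly_hq k hL hE 𝓔 hcoh) n, Finset.sum_eq_zero, sub_zero]
  intro j _
  rw [(quot_small k hL hE 𝓔 hcoh h𝓔 hsupp (isHilbPoly_hq k hL hE 𝓔 hcoh) j.succ).1 n hn]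
  simp

variable {W : X.Modules} (ι : W ⟶ E) [Mono ι] (hW : Coh.IsCoh W)

include k hL hE hcoh hW in
theorem hcoh_induced (j : Fin (𝓔.l + 2)) :
    Coh.IsCoh (((𝓔.induced ι).pieceX j : Subobject W) : X.Modules) := by
  rw [pieceX_induced]; exact isCoh_pullback k hL ι hE hW (hcoh j)

include hL hE hcoh hW h𝓔 hsupp in
theorem quot_small_induced {QH : Fin (𝓔.l + 2) → ℚ[X]}
    (hQH : ∀ j, ShStab.IsHilbPoly k X L (cokernel ((𝓔.induced ι).pieceX j).arrow) (QH j)) (j : Fin (𝓔.l + 2)) :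
    (∀ n, d ≤ n → (QH j).coeff n = 0) ∧ 0 ≤ (QH j).coeff (d - 1) := by
  have hc := isCoh_cokernel_arrow k hL hW _ (hcoh_induced k hL hE 𝓔 hcoh ι hW j)
  rw [(Sh.hilb_iff k hL.1 hc _).1 (hQH j)]
  refine coeff_small k hL hc (dim_lt hsupp ?_)
  rw [pieceX_induced]
  obtain ⟨c, hc'⟩ := exists_mono_cokernel ι (𝓔.pieceX j)
  exact (support_of_mono c).trans (support_quot 𝓔 h𝓔 j)

variable {Q : ℚ[X]} (hQ : ShStab.IsHilbPoly k X L W Q) {QX : Fin (𝓔.l + 2) → ℚ[X]}
  (hQX : ∀ j, ShStab.IsHilbPoly k X L (((𝓔.induced ι).pieceX j : Subobject W) : X.Modules) (QX j))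

include hL hE hcoh hW h𝓔 hsupp hQ hQX in
theorem parPoly_induced_top (n : ℕ) (hn : d ≤ n) :
    (parPoly (𝓔.induced ι) QX).coeff n = (Q.coeff n : ℝ) := by
  have hc := hcoh_induced k hL hE 𝓔 hcoh ι hW
  rw [parPoly_eq k hL (𝓔.induced ι) hW hc hQ hQX (isHilbPoly_hq k hL hW (𝓔.induced ι) hc) n,
    Finset.sum_eq_zero, sub_zero]
  intro j _
  rw [(quot_small_induced k hL hE 𝓔 hcoh h𝓔 hsupp ι hW (isHilbPoly_hq k hL hW (𝓔.induced ι) hc) j.succ).1 n hn]
  simp

end Along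

end Groth.Agent.ParHilbLib
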