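import Groth.Agent.ParHilbLib.Compare

/-!
Additivity along parabolic extensions; saturation and monotonicity.
-/

set_option autoImplicit false
set_option linter.style.haveILetI false
set_option linter.unusedSectionVars false
set_option backward.isDefEq.respectTransparency false
set_option backward.isDefEq.respectTransparency.types false
set_option maxHeartbeats 1000000

universe u

open CategoryTheory CategoryTheory.Limits AlgebraicGeometry
open scoped Polynomial
open Groth.Agent.StabLib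
open W4swparbununimod (rpoly parPoly parPolyOne)

noncomputable section

namespace Groth.Agent.ParHilbLib

variable {X : Scheme.{u}} (k : Type u) [Field k] [X.Over (Spec (CommRingCat.of k))]
  [IsProper (X ↘ Spec (CommRingCat.of k))] {L : X.Modules} (hL : CohB1.IsAmple L)

theorem pieceX_coinduced {E G : X.Modules} (𝓔 : ParSh.Str E) (p : E ⟶ G) [Epi p] (j : Fin (𝓔.l + 2)) :
    (𝓔.coinduced p).pieceX j = imageSubobject ((𝓔.pieceX j).arrow ≫ p) := by
  induction j using Fin.lastCases with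
  | last => exact ((𝓔.coinduced p).pieceX_last).trans (by rw [𝓔.pieceX_last]; rfl)
  | cast j => exact ((𝓔.coinduced p).pieceX_castSucc j).trans (by rw [𝓔.pieceX_castSucc]; rfl)

include k hL in
/-- `χ` of a piece is the sum of those of the induced pieces on the sub and on the quotient -/
theorem piece_add {F E G : X.Modules} (hF : Coh.IsCoh F) (hE : Coh.IsCoh E) (hG : Coh.IsCoh G)
    (i : F ⟶ E) [Mono i] (p : E ⟶ G) (w : i ≫ p = 0) (hS : (ShortComplex.mk i p w).ShortExact)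
    (A : Subobject E) (hA : Coh.IsCoh (A : X.Modules)) :
    Coh.IsCoh ((imageSubobject (A.arrow ≫ p) : Subobject G) : X.Modules) ∧
      Sh.hp k L (A : X.Modules) = Sh.hp k L (((Subobject.pullback i).obj A : Subobject F) : X.Modules) +
        Sh.hp k L ((imageSubobject (A.arrow ≫ p) : Subobject G) : X.Modules) := by
  have hB := isCoh_pullback k hL i hE hF hA
  have hI : Coh.IsCoh ((imageSubobject (A.arrow ≫ p) : Subobject G) : X.Modules) :=
    Inv.ok_imageSubobject (I := Sh.inv k hL) hG (A.arrow ≫ p) hA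
  refine ⟨hI, ?_⟩
  let a := Subobject.pullbackπ i A
  have hpb := Subobject.isPullback i A
  have hw : a ≫ A.arrow ≫ p = 0 := by rw [reassoc_of% hpb.w, w, comp_zero]
  have hw' : a ≫ factorThruImageSubobject (A.arrow ≫ p) = 0 := by
    rw [← cancel_mono (imageSubobject (A.arrow ≫ p)).arrow, Category.assoc, imageSubobject_arrow_comp, hw,
      zero_comp]
  haveI : Mono a := by
    refine ⟨fun u v huv => ?_⟩
    apply hpb.hom_ext huv
    rw [← cancel_mono i, Category.assoc, Category.assoc, ← hpb.w, reassoc_of% huv]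
  have hex : (ShortComplex.mk a (factorThruImageSubobject (A.arrow ≫ p)) hw').Exact := by
    refine ShortComplex.exact_of_f_is_kernel _ (KernelFork.IsLimit.ofι' _ _ fun {T} t ht => ?_)
    have ht' : (t ≫ A.arrow) ≫ p = 0 := by
      have h' := (Category.assoc _ _ _).symm.trans (congrArg (· ≫ (imageSubobject (A.arrow ≫ p)).arrow) ht)
      rw [imageSubobject_arrow_comp, zero_comp] at h'
      rw [Category.assoc]
      exact h'
    obtain ⟨v, hv⟩ := KernelFork.IsLimit.lift' hS.fIsKernel (t ≫ A.arrow) ht'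
    exact ⟨hpb.lift t v hv.symm, hpb.lift_fst t v hv.symm⟩
  have hses : (ShortComplex.mk a (factorThruImageSubobject (A.arrow ≫ p)) hw').ShortExact :=
    { exact := hex, mono_f := inferInstanceAs (Mono a),
      epi_g := inferInstanceAs (Epi (factorThruImageSubobject (A.arrow ≫ p))) }
  exact (Sh.inv k hL).hp_add (S := ShortComplex.mk a (factorThruImageSubobject (A.arrow ≫ p)) hw') hses hB hA hI

include k hL in
theorem parHilb_add {F E G : X.Modules} (hF : Coh.IsCoh F) (hE : Coh.IsCoh E) (hG : Coh.IsCoh G)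
    (i : F ⟶ E) (p : E ⟶ G) [Epi p] (w : i ≫ p = 0) (hS : (ShortComplex.mk i p w).ShortExact)
    (𝓔 : ParSh.Str E) (hcoh : ∀ j, Coh.IsCoh ((𝓔.pieceX j : Subobject E) : X.Modules)) (m : ℕ) :
    (𝓔.induced i).parHilb k X L m + (𝓔.coinduced p).parHilb k X L m = 𝓔.parHilb k X L m := by
  haveI := hS.mono_f
  have hA : ∀ j, ShStab.IsHilbPoly k X L ((𝓔.pieceX j : Subobject E) : X.Modules)
      (Sh.hp k L ((𝓔.pieceX j : Subobject E) : X.Modules)) := fun j => Sh.isHilbPoly_hp k hL.1 (hcoh j)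
  have hB : ∀ j, ShStab.IsHilbPoly k X L (((𝓔.induced i).pieceX j : Subobject F) : X.Modules)
      (Sh.hp k L (((𝓔.induced i).pieceX j : Subobject F) : X.Modules)) := fun j =>
    Sh.isHilbPoly_hp k hL.1 (hcoh_induced k hL hE 𝓔 hcoh i hF j)
  have hC : ∀ j, ShStab.IsHilbPoly k X L (((𝓔.coinduced p).pieceX j : Subobject G) : X.Modules)
      (Sh.hp k L (((𝓔.coinduced p).pieceX j : Subobject G) : X.Modules)) := fun j =>
    Sh.isHilbPoly_hp k hL.1 (by
      rw [pieceX_coinduced]; exact (piece_add k hL hF hE hG i p w hS (𝓔.pieceX j) (hcoh j)).1)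
  have e : ∀ j, rpoly (Sh.hp k L ((𝓔.pieceX j : Subobject E) : X.Modules)) =
      rpoly (Sh.hp k L (((𝓔.induced i).pieceX j : Subobject F) : X.Modules)) +
        rpoly (Sh.hp k L (((𝓔.coinduced p).pieceX j : Subobject G) : X.Modules)) := fun j => by
    rw [← Polynomial.map_add, pieceX_induced, pieceX_coinduced,
      (piece_add k hL hF hE hG i p w hS (𝓔.pieceX j) (hcoh j)).2]
  rw [parHilb_eq k (𝓔.induced i) hB m, parHilb_eq k (𝓔.coinduced p) hC m, parHilb_eq k 𝓔 hA m,
    ← Polynomial.eval_add]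
  refine congrArg (Polynomial.eval (m : ℝ)) ?_
  simp only [parPoly, e]
  rw [add_add_add_comm]
  refine congrArg₂ (· + ·) rfl ?_
  refine Eq.trans (Finset.sum_add_distrib (s := (Finset.univ : Finset (Fin (𝓔.l + 1))))).symm
    (Finset.sum_congr rfl fun j _ => ?_)
  show Polynomial.C (𝓔.wt j) * _ + Polynomial.C (𝓔.wt j) * _ = _
  ring

section Saturate

variable {E : X.Modules} (hE : Coh.IsCoh E) {d : ℕ}

include k hL hE in
/-- saturation, remembering the inclusion -/
theorem exists_saturated (hp : ShStab.IsPure X E d) {F : X.Modules} (ι : F ⟶ E) [Mono ι] (hF : Coh.IsCoh F)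
    (h0 : ¬ IsZero F) :
    ∃ (M : X.Modules) (j : M ⟶ E) (u : F ⟶ M), Mono j ∧ Coh.IsCoh M ∧ ¬ IsZero M ∧ u ≫ j = ι ∧
      ShStab.IsPure X (cokernel j) d ∧
      StabCat.alpha d (Sh.hp k L M) = StabCat.alpha d (Sh.hp k L F) := by
  have hp' := (Sh.isPure_iff k hL E d).1 hp
  have hd := hp'.deg_le hE
  obtain ⟨M, hle, ha, hpa⟩ :=
    (OkSub.val (I := Sh.inv k hL) hE d hd).exists_saturation ⊥ (OkSub.mk (I := Sh.inv k hL) hE ι hF)
  have hle0 : Subobject.mk ι ≤ M.1 := hle
  refine ⟨(M.1 : X.Modules), M.1.arrow, (Subobject.underlyingIso ι).inv ≫ Subobject.ofLE _ _ hle0, inferInstance,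
    M.2, OkSub.not_isZero_coe ((OkSub.bot_lt_mk ι hF h0 hd).trans_le hle) hd, ?_, ?_, ?_⟩
  · rw [Category.assoc, Subobject.ofLE_arrow, Subobject.underlyingIso_arrow]
  · rw [Sh.isPure_iff k hL]
    have hle' : M ≤ (⊤ : OkSub (Sh.inv k hL) E hE) := le_top
    refine Inv.Pure.of_iso (B := OkSub.quo M ⊤ hle') ?_
      ((OkSub.pure_quo_iff (hd := hd) hle').2 fun z hz _ => hpa z hz)
    exact cokernelIsoOfEq (Subobject.ofLE_arrow (show M.1 ≤ (⊤ : Subobject E) from le_top)).symm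
      ≪≫ cokernelCompIsIso _ _
  · rw [Val.a, Val.a, OkSub.q_bot, OkSub.q_mk] at ha
    exact ha

end Saturate

section Mono

variable {E M F : X.Modules} (𝓔 : ParSh.Str E) (j : M ⟶ E) [Mono j] (ι : F ⟶ E) [Mono ι] (u : F ⟶ M)

theorem exists_mono_pullback (hu : u ≫ j = ι) (A : Subobject E) :
    ∃ c : ((Subobject.pullback ι).obj A : X.Modules) ⟶ ((Subobject.pullback j).obj A : X.Modules), Mono c := by
  subst hu
  have h1 := Subobject.isPullback (u ≫ j) A
  have h2 := Subobject.isPullback j A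
  haveI : Mono u := mono_of_mono u j
  refine ⟨h2.lift (Subobject.pullbackπ (u ≫ j) A) (((Subobject.pullback (u ≫ j)).obj A).arrow ≫ u)
    (by rw [h1.w, Category.assoc]), ⟨fun a b hab => ?_⟩⟩
  have e := congrArg (· ≫ ((Subobject.pullback j).obj A).arrow) hab
  simp only [Category.assoc, h2.lift_snd] at e
  simp only [← Category.assoc] at e
  exact (cancel_mono ((Subobject.pullback (u ≫ j)).obj A).arrow).1 ((cancel_mono u).1 e)

include k hL in
theorem parPoly_mono (hE : Coh.IsCoh E) (hM : Coh.IsCoh M) (hF : Coh.IsCoh F) (hu : u ≫ j = ι)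
    (hcoh : ∀ j, Coh.IsCoh ((𝓔.pieceX j : Subobject E) : X.Modules))
    {QX : Fin (𝓔.l + 2) → ℚ[X]}
    (hQX : ∀ i, ShStab.IsHilbPoly k X L (((𝓔.induced ι).pieceX i : Subobject F) : X.Modules) (QX i))
    {RX : Fin (𝓔.l + 2) → ℚ[X]}
    (hRX : ∀ i, ShStab.IsHilbPoly k X L (((𝓔.induced j).pieceX i : Subobject M) : X.Modules) (RX i)) :
    ∃ N : ℕ, ∀ m : ℕ, N ≤ m →
      (parPoly (𝓔.induced ι) QX).eval (m : ℝ) ≤ (parPoly (𝓔.induced j) RX).eval (m : ℝ) := by
  have key : ∀ i, Nn (RX i - QX i) := fun i => by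
    have h1 := hcoh_induced k hL hE 𝓔 hcoh ι hF i
    have h2 := hcoh_induced k hL hE 𝓔 hcoh j hM i
    rw [(Sh.hilb_iff k hL.1 h1 _).1 (hQX i), (Sh.hilb_iff k hL.1 h2 _).1 (hRX i)]
    obtain ⟨c, hc⟩ := exists_mono_pullback j ι u hu (𝓔.pieceX i)
    rw [pieceX_induced] at h1 h2 ⊢
    rw [pieceX_induced]
    exact Inv.hp_sub_nn (I := Sh.inv k hL) c h1 h2
  obtain ⟨N, hN⟩ := Filter.eventually_atTop.1 ((Filter.eventually_all).2 fun i => (key i).eventually)
  refine ⟨N, fun m hm => sub_nonneg.1 ?_⟩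
  let v : Fin (𝓔.l + 2) → ℝ := fun i => (((RX i).eval (m : ℚ) : ℚ) : ℝ) - (((QX i).eval (m : ℚ) : ℚ) : ℝ)
  have hv : ∀ i, 0 ≤ v i := fun i => by
    have := hN m hm i
    rw [Polynomial.eval_sub] at this
    exact sub_nonneg.2 (Rat.cast_le.2 (sub_nonneg.1 this))
  have e : (parPoly (𝓔.induced j) RX).eval (m : ℝ) - (parPoly (𝓔.induced ι) QX).eval (m : ℝ) =
      v (Fin.last _) + ∑ i : Fin (𝓔.l + 1), 𝓔.wt i * (v i.castSucc - v i.succ) := by
    simp only [parPoly, Polynomial.eval_add, Polynomial.eval_finsetSum, Polynomial.eval_mul, Polynomial.eval_C,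
      Polynomial.eval_sub, eval_rpoly]
    rw [add_sub_add_comm]
    refine congrArg₂ (· + ·) rfl (((Finset.sum_sub_distrib (s := (Finset.univ : Finset (Fin (𝓔.l + 1)))) _ _).symm).trans
      (Finset.sum_congr rfl fun i _ => ?_))
    show 𝓔.wt i * _ - 𝓔.wt i * _ = _
    ring
  rw [e]
  have h := parts 𝓔.l v 𝓔.wtX
  simp only [𝓔.wtX_castSucc, 𝓔.wtX_last, one_mul] at h
  have hneg : ∑ i : Fin (𝓔.l + 1), 𝓔.wt i * (v i.castSucc - v i.succ) =
      - ∑ i : Fin (𝓔.l + 1), 𝓔.wt i * (v i.succ - v i.castSucc) := by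
    rw [← Finset.sum_neg_distrib]; exact Finset.sum_congr rfl fun i _ => by ring
  have hw0 : 0 ≤ 𝓔.wtX 0 := by
    rw [show (0 : Fin (𝓔.l + 2)) = (0 : Fin (𝓔.l + 1)).castSucc from rfl, 𝓔.wtX_castSucc]; exact 𝓔.wt_nonneg
  have hs : 0 ≤ ∑ i : Fin (𝓔.l + 1), (𝓔.wtX i.succ - 𝓔.wt i) * v i.succ :=
    Finset.sum_nonneg fun i _ => mul_nonneg (by simpa [𝓔.wtX_castSucc] using wtX_succ_sub_nonneg 𝓔 i) (hv _)
  rw [hneg, h]
  nlinarith [mul_nonneg hw0 (hv 0)]

end Mono

end Groth.Agent.ParHilbLib
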