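import Groth.Agent.ParHilbLib.Extension

/-!
The first modified parabolic Hilbert polynomial.
-/

set_option autoImplicit false
set_option linter.style.haveILetI false
set_option linter.unusedSectionVars false
set_option backward.isDefEq.respectTransparency false
set_option backward.isDefEq.respectTransparency.types false
set_option maxHeartbeats 1000000

universe u

open CategoryTheory CategoryTheory.Limits AlgebraicGeometry
open scoped Polynomial
open Groth.Agent.StabLib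
open W4swparbununimod (rpoly parPoly parPolyOne)
open Filter

noncomputable section

namespace Groth.Agent.ParHilbLib

variable {X : Scheme.{u}}

/-- the ratio of multiplicities in degree `d - 1` -/
def rho (d : ℕ) (K H : ℚ[X]) : ℝ := ((StabCat.alpha (d - 1) K / StabCat.alpha (d - 1) H : ℚ) : ℝ)

theorem parPolyOne_eval {E : X.Modules} (𝓔 : ParSh.Str E) (d : ℕ) (Q : ℚ[X]) (QH H : Fin (𝓔.l + 2) → ℚ[X]) (m : ℕ) :
    (parPolyOne 𝓔 d Q QH H).eval (m : ℝ) = ((Q.eval (m : ℚ) : ℚ) : ℝ) -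
      ∑ j : Fin (𝓔.l + 1), (𝓔.wtX j.succ - 𝓔.wtX j.castSucc) *
        (rho d (QH j.succ) (H j.succ) * (((H j.succ).eval (m : ℚ) : ℚ) : ℝ)) := by
  rw [parPolyOne, Polynomial.eval_sub, Polynomial.eval_finsetSum, eval_rpoly]
  congr 1
  exact Finset.sum_congr rfl fun j _ => by rw [Polynomial.eval_mul, Polynomial.eval_C, eval_rpoly, rho]; ring

theorem parPolyOne_coeff {E : X.Modules} (𝓔 : ParSh.Str E) (d : ℕ) (Q : ℚ[X]) (QH H : Fin (𝓔.l + 2) → ℚ[X]) (n : ℕ) :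
    (parPolyOne 𝓔 d Q QH H).coeff n = (Q.coeff n : ℝ) -
      ∑ j : Fin (𝓔.l + 1), (𝓔.wtX j.succ - 𝓔.wtX j.castSucc) *
        (rho d (QH j.succ) (H j.succ) * ((H j.succ).coeff n : ℝ)) := by
  simp only [parPolyOne, Polynomial.coeff_sub, Polynomial.finsetSum_coeff, Polynomial.coeff_C_mul, coeff_rpoly, rho]
  congr 1
  exact Finset.sum_congr rfl fun j _ => by ring

theorem rho_mul_coeff (d : ℕ) (K H : ℚ[X]) (h : StabCat.alpha (d - 1) H ≠ 0) :
    rho d K H * (H.coeff (d - 1) : ℝ) = (K.coeff (d - 1) : ℝ) := by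
  have hH : H.coeff (d - 1) ≠ 0 := fun e => h (by rw [StabCat.alpha, e, mul_zero])
  have hf : ((d - 1).factorial : ℚ) ≠ 0 := by exact_mod_cast (d - 1).factorial_ne_zero
  rw [rho, StabCat.alpha, StabCat.alpha, mul_div_mul_left _ _ hf, Rat.cast_div]
  exact div_mul_cancel₀ _ (by exact_mod_cast hH)

variable (k : Type u) [Field k] [X.Over (Spec (CommRingCat.of k))]
  [IsProper (X ↘ Spec (CommRingCat.of k))] {L : X.Modules} (hL : CohB1.IsAmple L)

include k hL in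
/-- subobjects of a semistable module, through their normalisation -/
theorem le_rho_of_mono {G K : X.Modules} {d : ℕ} (hG : ShStab.IsSemistable k X L G (d - 1)) (hK : Coh.IsCoh K)
    (c : K ⟶ G) [Mono c] {pK pG : ℚ[X]} (hpK : ShStab.IsHilbPoly k X L K pK) (hpG : ShStab.IsHilbPoly k X L G pG)
    (hα : 0 < StabCat.alpha (d - 1) pG) :
    ∃ N : ℕ, ∀ m : ℕ, N ≤ m →
      ((pK.eval (m : ℚ) : ℚ) : ℝ) ≤ rho d pK pG * ((pG.eval (m : ℚ) : ℚ) : ℝ) := by
  by_cases h0 : IsZero K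
  · refine ⟨0, fun m _ => le_of_eq ?_⟩
    have h : pK = 0 := ((Sh.hilb_iff k hL.1 hK pK).1 hpK).trans ((Sh.inv k hL).hp_zero h0 hK)
    simp [h, rho, StabCat.alpha]
  by_cases hi : IsIso c
  · have h : pG = pK := ((Sh.hilb_iff k hL.1 hG.1 pG).1 hpG).trans
      ((((Sh.inv k hL).hp_iso (asIso c) hK).symm).trans ((Sh.hilb_iff k hL.1 hK pK).1 hpK).symm)
    refine ⟨0, fun m _ => le_of_eq ?_⟩
    subst h
    rw [rho, div_self hα.ne']
    push_cast
    ring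
  obtain ⟨N, hN⟩ := hG.2.2.2 K c inferInstance hK h0 hi pK pG hpK hpG
  refine ⟨N, fun m hm => ?_⟩
  have h := hN m hm
  rw [Polynomial.eval_smul, Polynomial.eval_smul, smul_eq_mul, smul_eq_mul] at h
  have h' : pK.eval (m : ℚ) ≤ StabCat.alpha (d - 1) pK / StabCat.alpha (d - 1) pG * pG.eval (m : ℚ) := by
    rw [div_mul_eq_mul_div, le_div_iff₀ hα]
    linarith
  rw [rho, ← Rat.cast_mul]
  exact Rat.cast_le.2 h'

variable {E : X.Modules} (hE : Coh.IsCoh E) (𝓔 : ParSh.Str E)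
  (hcoh : ∀ j, Coh.IsCoh ((𝓔.pieceX j : Subobject E) : X.Modules))

include k hL in
theorem isSemistable_of_isStable {G : X.Modules} {d : ℕ} (h : ShStab.IsStable k X L G d) :
    ShStab.IsSemistable k X L G d :=
  ⟨h.1, h.2.1, h.2.2.1, fun F ι hι hF h0 hi p q hp hq => by
    obtain ⟨N, hN⟩ := h.2.2.2 F ι hι hF h0 hi p q hp hq
    exact ⟨N, fun m hm => (hN m hm).le⟩⟩

variable {I : X.IdealSheafData} (h𝓔 : 𝓔.Along I) {d : ℕ}
  (hsupp : topologicalKrullDim ↥(CohB1.support E ∩ (I.support : Set X)) < (d : WithBot ℕ∞))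
  {W : X.Modules} (ι : W ⟶ E) [Mono ι] (hW : Coh.IsCoh W)
  {Q : ℚ[X]} (hQ : ShStab.IsHilbPoly k X L W Q) {QX : Fin (𝓔.l + 2) → ℚ[X]}
  (hQX : ∀ j, ShStab.IsHilbPoly k X L (((𝓔.induced ι).pieceX j : Subobject W) : X.Modules) (QX j))
  {QH : Fin (𝓔.l + 2) → ℚ[X]}
  (hQH : ∀ j, ShStab.IsHilbPoly k X L (cokernel ((𝓔.induced ι).pieceX j).arrow) (QH j))
  {H : Fin (𝓔.l + 2) → ℚ[X]} (hH : ∀ j, ShStab.IsHilbPoly k X L (cokernel (𝓔.pieceX j).arrow) (H j))

include hL hE hcoh h𝓔 hsupp hH hW hQ hQX hQH in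
/-- with semistable flag quotients `P₁ ≤ Par` -/
theorem parPolyOne_le (hHa : ∀ j : Fin (𝓔.l + 1), StabCat.alpha (d - 1) (H j.succ) ≠ 0)
    (hq : ∀ j : Fin (𝓔.l + 1), ShStab.IsSemistable k X L (cokernel (𝓔.pieceX j.succ).arrow) (d - 1)) :
    ∃ N : ℕ, ∀ m : ℕ, N ≤ m →
      (parPolyOne 𝓔 d Q QH H).eval (m : ℝ) ≤ (parPoly (𝓔.induced ι) QX).eval (m : ℝ) := by
  have key : ∀ j : Fin (𝓔.l + 1), ∀ᶠ m : ℕ in atTop, (((QH j.succ).eval (m : ℚ) : ℚ) : ℝ) ≤
      rho d (QH j.succ) (H j.succ) * (((H j.succ).eval (m : ℚ) : ℚ) : ℝ) := fun j => by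
    have hα : 0 < StabCat.alpha (d - 1) (H j.succ) :=
      lt_of_le_of_ne (mul_nonneg (by positivity) (quot_small k hL hE 𝓔 hcoh h𝓔 hsupp hH j.succ).2) (hHa j).symm
    obtain ⟨c, hc⟩ : ∃ c : cokernel ((𝓔.induced ι).pieceX j.succ).arrow ⟶ cokernel (𝓔.pieceX j.succ).arrow,
        Mono c := by
      rw [pieceX_induced]; exact exists_mono_cokernel ι _
    exact eventually_atTop.2 (le_rho_of_mono k hL (hq j)
      (isCoh_cokernel_arrow k hL hW _ (hcoh_induced k hL hE 𝓔 hcoh ι hW j.succ)) c (hQH j.succ) (hH j.succ) hα)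
  obtain ⟨N, hN⟩ := eventually_atTop.1 (eventually_all.2 key)
  refine ⟨N, fun m hm => ?_⟩
  rw [parPoly_eval k hL hW (𝓔.induced ι) (hcoh_induced k hL hE 𝓔 hcoh ι hW) hQ hQX hQH m, parPolyOne_eval]
  refine sub_le_sub_left (Finset.sum_le_sum fun j _ => ?_) _
  exact mul_le_mul_of_nonneg_left (hN m hm j) (wtX_succ_sub_nonneg 𝓔 j)

end Groth.Agent.ParHilbLib
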